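import Mathlib

/-!
# Primes dividing `q ± 1`, `q` a power of 2 or 3 (helper538)
-/

set_option autoImplicit false

namespace Cfsg.Agent.H538.Pw

theorem no_three {a b : ℕ} (h : 3 ^ a = 2 ^ b + 1) (hb : 4 ≤ b) : False := by
  obtain ⟨k, rfl⟩ : ∃ k, b = k + 4 := ⟨b - 4, by omega⟩
  have h1 : 3 ^ a % 16 = 1 := by
    rw [h, pow_add]
    omega
  have h2 : a % 4 = 0 := by
    rw [← Nat.div_add_mod a 4, pow_add, pow_mul, Nat.mul_mod, Nat.pow_mod, show (3 ^ 4 % 16) = 1 by norm_num, one_pow] at h1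
    have h3 : a % 4 < 4 := Nat.mod_lt _ (by norm_num)
    interval_cases h4 : a % 4
    · rfl
    · norm_num at h1
    · norm_num at h1
    · norm_num at h1
  obtain ⟨c, rfl⟩ : ∃ c, a = 4 * c := ⟨a / 4, by omega⟩
  have h3 : 3 ^ (4 * c) % 5 = 1 := by
    rw [pow_mul, Nat.pow_mod, show (3 ^ 4 % 5) = 1 by norm_num, one_pow]
    rfl
  have h4 : 2 ^ (k + 4) % 5 = 0 := by omega
  have h5 : 5 ∣ 2 ^ (k + 4) := Nat.dvd_of_mod_eq_zero h4
  have h6 := Nat.prime_five.dvd_of_dvd_pow h5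
  omega

theorem no_two {a b : ℕ} (h : 2 ^ b = 3 ^ a + 1) (hb : 3 ≤ b) : False := by
  obtain ⟨k, rfl⟩ : ∃ k, b = k + 3 := ⟨b - 3, by omega⟩
  have h1 : 3 ^ a % 8 = 7 := by
    have : 2 ^ (k + 3) % 8 = 0 := by
      rw [pow_add]
      omega
    omega
  rw [← Nat.div_add_mod a 2, pow_add, pow_mul, Nat.mul_mod, Nat.pow_mod, show (3 ^ 2 % 8) = 1 by norm_num, one_pow] at h1
  have h3 : a % 2 < 2 := Nat.mod_lt _ (by norm_num)
  interval_cases h4 : a % 2 <;> norm_num at h1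

/-- the numbers without prime divisors at least five -/
theorem eq_pow_of {r s m : ℕ} (hrs : (r = 2 ∧ s = 3) ∨ (r = 3 ∧ s = 2)) (hm : m ≠ 0) (hr : ¬ r ∣ m)
    (h : ∀ l : ℕ, l.Prime → 5 ≤ l → ¬ l ∣ m) : ∃ k, m = s ^ k := by
  refine ⟨_, Nat.eq_prime_pow_of_unique_prime_dvd hm ?_⟩
  intro l hl hlm
  have h2 : ¬ 5 ≤ l := fun h5 => h l hl h5 hlm
  have h3 : l ≠ r := by
    rintro rfl
    exact hr hlm
  have h8 := hl.two_le
  have h9 : l ≠ 4 := by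
    rintro rfl
    exact absurd hl (by decide)
  omega

theorem ell_plus {r n : ℕ} (h : (r = 2 ∧ (n = 2 ∨ 4 ≤ n)) ∨ (r = 3 ∧ 2 ≤ n)) :
    ∃ l : ℕ, l.Prime ∧ 5 ≤ l ∧ l ∣ r ^ n + 1 := by
  by_contra hcon
  push Not at hcon
  have hn : 0 < n := by omega
  rcases h with ⟨rfl, h⟩ | ⟨rfl, h⟩
  · have h2 : ¬ 2 ∣ 2 ^ n + 1 := by
      have : 2 ∣ 2 ^ n := dvd_pow_self 2 hn.ne'
      omega
    obtain ⟨k, hk⟩ := eq_pow_of (r := 2) (s := 3) (Or.inl ⟨rfl, rfl⟩) (by omega) h2 hcon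
    rcases h with rfl | h
    · have h5 := hcon 5 Nat.prime_five le_rfl
      norm_num at h5
    · exact no_three hk.symm h
  · have h2 : ¬ 3 ∣ 3 ^ n + 1 := by
      have : 3 ∣ 3 ^ n := dvd_pow_self 3 hn.ne'
      omega
    obtain ⟨k, hk⟩ := eq_pow_of (r := 3) (s := 2) (Or.inr ⟨rfl, rfl⟩) (by omega) h2 hcon
    refine no_two hk.symm ?_
    by_contra hlt
    have h3 : 2 ^ k ≤ 2 ^ 2 := Nat.pow_le_pow_right (by norm_num) (by omega)
    have h4 : 3 ^ 2 ≤ 3 ^ n := Nat.pow_le_pow_right (by norm_num) h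
    omega

theorem ell_minus {r n : ℕ} (hr : r = 2 ∨ r = 3) (hn : 3 ≤ n) : ∃ l : ℕ, l.Prime ∧ 5 ≤ l ∧ l ∣ r ^ n - 1 := by
  by_contra hcon
  push Not at hcon
  rcases hr with rfl | rfl
  · have h3 : 2 ^ 3 ≤ 2 ^ n := Nat.pow_le_pow_right (by norm_num) hn
    have h2 : ¬ 2 ∣ 2 ^ n - 1 := by
      have : 2 ∣ 2 ^ n := dvd_pow_self 2 (by omega)
      omega
    obtain ⟨k, hk⟩ := eq_pow_of (r := 2) (s := 3) (Or.inl ⟨rfl, rfl⟩) (by omega) h2 hcon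
    exact no_two (a := k) (b := n) (by omega) hn
  · have h3 : 3 ^ 3 ≤ 3 ^ n := Nat.pow_le_pow_right (by norm_num) hn
    have h2 : ¬ 3 ∣ 3 ^ n - 1 := by
      have : 3 ∣ 3 ^ n := dvd_pow_self 3 (by omega)
      omega
    obtain ⟨k, hk⟩ := eq_pow_of (r := 3) (s := 2) (Or.inr ⟨rfl, rfl⟩) (by omega) h2 hcon
    refine no_three (a := n) (b := k) (by omega) ?_
    by_contra hlt
    have h4 : 2 ^ k ≤ 2 ^ 3 := Nat.pow_le_pow_right (by norm_num) (by omega)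
    omega

/-- a prime `≥ 5` dividing `q² + q + 1` -/
theorem ell_cyc {q : ℕ} (hq : 2 ≤ q) : ∃ l : ℕ, l.Prime ∧ 5 ≤ l ∧ l ∣ q ^ 2 + q + 1 := by
  by_contra hcon
  push Not at hcon
  have h2 : ¬ 2 ∣ q ^ 2 + q + 1 := by
    intro h
    have h1 : (q ^ 2 + q + 1) % 2 = 0 := Nat.mod_eq_zero_of_dvd h
    have h3 : q % 2 < 2 := Nat.mod_lt _ (by norm_num)
    rw [pow_two, Nat.add_mod, Nat.add_mod (q * q), Nat.mul_mod] at h1
    interval_cases h4 : q % 2 <;> norm_num at h1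
  obtain ⟨k, hk⟩ := eq_pow_of (r := 2) (s := 3) (Or.inl ⟨rfl, rfl⟩) (by positivity) h2 hcon
  have h9 : (q ^ 2 + q + 1) % 9 ≠ 0 := by
    intro h1
    have h3 : q % 9 < 9 := Nat.mod_lt _ (by norm_num)
    rw [pow_two, Nat.add_mod, Nat.add_mod (q * q), Nat.mul_mod] at h1
    interval_cases h4 : q % 9 <;> norm_num at h1
  have hk1 : k < 2 := by
    by_contra hlt
    apply h9
    rw [hk, show k = 2 + (k - 2) by omega, pow_add]
    omega
  have h7 : 7 ≤ q ^ 2 + q + 1 := by nlinarith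
  rw [hk] at h7
  interval_cases k <;> norm_num at h7

end Cfsg.Agent.H538.Pw
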